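import Mathlib
import Cfsg.Prelude.Def_Characters
import Cfsg.Agent.Characters.Core
import Cfsg.Agent.CharactersDeep.FeitOddAux
set_option linter.all false

/-!
# The square root function and Frobenius-Schur indicators
-/

set_option autoImplicit false
open Cfsg

namespace Cfsg.Agent.H692.SqRoot

open Cfsg.Agent.Characters.Core
open scoped ComplexConjugate

universe u
variable {G : Type u} [Group G]

/-- The Frobenius-Schur indicator of a function. -/
noncomputable def nu [Fintype G] (χ : G → ℂ) : ℂ := (Nat.card G : ℂ)⁻¹ * ∑ s : G, χ (s * s)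

/-- The indicator of an irreducible character is `0`, `1` or `-1`, and `0` exactly for characters
which are not real-valued. -/
theorem nu_spec [Fintype G] {χ : G → ℂ} (hχ : IsIrrCharacter G χ) :
    (nu χ = 0 ∧ ∃ g, (χ g).im ≠ 0) ∨ ((nu χ = 1 ∨ nu χ = -1) ∧ ∀ g, (χ g).im = 0) := by
  obtain ⟨n, hn, h1, h2⟩ := CharactersDeep.FeitOddAux.exists_indicator hχ
  have h1' : nu χ = n := h1
  by_cases hz : n = 0
  · left
    refine ⟨by rw [h1', hz]; simp, h2.1 hz⟩
  · right
    refine ⟨?_, ?_⟩
    · rcases hn with h | h | h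
      · exact absurd h hz
      · left; rw [h1', h]; simp
      · right; rw [h1', h]; simp
    · intro g
      by_contra hg
      exact hz (h2.2 ⟨g, hg⟩)

theorem nu_eq_zero_of_not_real [Fintype G] {χ : G → ℂ} (hχ : IsIrrCharacter G χ)
    (h : ¬ ∀ g, (χ g).im = 0) : nu χ = 0 := by
  rcases nu_spec hχ with h1 | h1
  · exact h1.1
  · exact absurd h1.2 h

theorem nu_ne_zero_of_real [Fintype G] {χ : G → ℂ} (hχ : IsIrrCharacter G χ)
    (h : ∀ g, (χ g).im = 0) : nu χ ≠ 0 := by
  rcases nu_spec hχ with ⟨_, g, hg⟩ | ⟨h1, _⟩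
  · exact absurd (h g) hg
  · rcases h1 with h1 | h1 <;> rw [h1] <;> norm_num

theorem conj_nu [Fintype G] {χ : G → ℂ} (hχ : IsIrrCharacter G χ) : conj (nu χ) = nu χ := by
  rcases nu_spec hχ with h1 | h1
  · rw [h1.1, map_zero]
  · rcases h1.1 with h | h <;> rw [h] <;> simp

theorem nu_one [Fintype G] : nu (fun _ : G => (1 : ℂ)) = 1 := by
  unfold nu
  rw [Finset.sum_const, Finset.card_univ, nsmul_eq_mul, mul_one, Nat.card_eq_fintype_card]
  exact inv_mul_cancel₀ (by exact_mod_cast Fintype.card_ne_zero)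

/-- The number of square roots. -/
noncomputable def sqrtCount (G : Type u) [Group G] [Fintype G] (g : G) : ℂ :=
  (Nat.card {u : G // u * u = g} : ℂ)

theorem isClassFunction_sqrtCount [Fintype G] : IsClassFunction G (sqrtCount G) := by
  intro g h
  unfold sqrtCount
  congr 1
  refine Nat.card_congr ((MulAut.conj h⁻¹).toEquiv.subtypeEquiv fun u => ?_)
  simp only [MulEquiv.toEquiv_eq_coe, EquivLike.coe_coe, MulAut.conj_apply, inv_inv]
  constructor
  · intro hu
    have : h⁻¹ * u * h * (h⁻¹ * u * h) = h⁻¹ * (u * u) * h := by group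
    rw [this, hu]; group
  · intro hu
    have : u * u = h * (h⁻¹ * u * h * (h⁻¹ * u * h)) * h⁻¹ := by group
    rw [this, hu]

/-- `∑ f g * #√g = ∑ f (u²)`. -/
theorem sum_sqrtCount_mul [Fintype G] (f : G → ℂ) :
    ∑ g : G, sqrtCount G g * f g = ∑ u : G, f (u * u) := by
  classical
  have h1 : ∀ g : G, sqrtCount G g * f g =
      ∑ u ∈ Finset.univ.filter (fun u : G => u * u = g), f (u * u) := by
    intro g
    rw [Finset.sum_congr rfl (g := fun _ => f g)]
    · rw [Finset.sum_const, nsmul_eq_mul]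
      congr 1
      unfold sqrtCount
      rw [Nat.card_eq_fintype_card, Fintype.card_subtype]
    · intro u hu
      rw [(Finset.mem_filter.1 hu).2]
  rw [Finset.sum_congr rfl (fun g _ => h1 g)]
  exact Finset.sum_fiberwise (Finset.univ : Finset G) (fun u : G => u * u)
      (fun u : G => f (u * u))

/-- **Frobenius-Schur**: the number of square roots of `g` is `∑ ν(χ) χ(g)`. -/
theorem sqrtCount_eq_sum [Fintype G] [Fintype (IrrCharacter G)] (g : G) :
    sqrtCount G g = ∑ χ : IrrCharacter G, nu (χ : G → ℂ) * (χ : G → ℂ) g := by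
  have h := congrFun (classFunction_eq_sum (isClassFunction_sqrtCount (G := G))) g
  rw [h, Finset.sum_apply]
  refine Finset.sum_congr rfl fun χ _ => ?_
  rw [Pi.smul_apply, smul_eq_mul]
  congr 1
  have h2 : classInner (sqrtCount G) (χ : G → ℂ) = conj (nu (χ : G → ℂ)) := by
    unfold classInner nu
    rw [sum_sqrtCount_mul (fun g => conj ((χ : G → ℂ) g)), map_mul, map_inv₀, map_natCast, map_sum]
  rw [h2, conj_nu χ.2]

end Cfsg.Agent.H692.SqRoot
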