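import Mathlib
import Cfsg.Prelude.Def_Characters
import Cfsg.Prelude.Def_Blocks
import Cfsg.Agent.Characters.Core
import Cfsg.Agent.Characters.Clifford
import Cfsg.Agent.CharactersDeep.NormalInd
import Cfsg.Agent.CharDeep.CliffordCorr
import Cfsg.Agent.OddHalf.NI.QuatDim
import Cfsg.Agent.S0135
import Cfsg.Agent.S0158
import Cfsg.Agent.S0165
import Cfsg.Agent.H692.SqRoot
import Cfsg.Agent.H692.RealAct
set_option linter.all false

/-!
# Real-valued characters over a character of 2-defect zero of a normal subgroup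

* `nu_eq_one_of_odd_mult` : a real-valued irreducible character whose restriction to some subgroup
  contains the principal character with odd multiplicity has Frobenius-Schur indicator `1`.
* `exists_real_over` : if `φ ∈ Irr(N)`, `N ⊴ G`, has 2-defect zero and its complex conjugate is
  `G`-conjugate to `φ`, then some real-valued `χ ∈ Irr(G)` with indicator `1` contains `φ` with odd
  multiplicity on restriction to `N`.
-/

set_option autoImplicit false
open Cfsg

namespace Cfsg.Agent.H692.RealOver

open Cfsg.Agent.Characters.Core Cfsg.Agent.Characters.Clifford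
open Cfsg.Agent.H692.SqRoot Cfsg.Agent.H692.RealAct
open scoped ComplexConjugate
open Representation

universe u
variable {G : Type u} [Group G]

/-- The degree of an irreducible character. -/
theorem charDegree_spec {χ : G → ℂ} (hχ : IsIrrCharacter G χ) :
    χ 1 = (charDegree χ : ℂ) ∧ 0 < charDegree χ := by
  obtain ⟨n, hn, h⟩ := isIrr_apply_one hχ
  have : charDegree χ = n := by
    unfold charDegree
    rw [h]
    simp
  rw [this]
  exact ⟨h, hn⟩

theorem charDegree_eq_of {χ : G → ℂ} {n : ℕ} (h : χ 1 = n) : charDegree χ = n := by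
  unfold charDegree
  rw [h]
  simp

theorem charDegree_dvd [Finite G] {χ : G → ℂ} (hχ : IsIrrCharacter G χ) :
    charDegree χ ∣ Nat.card G := by
  obtain ⟨n, ρ, hρ, rfl⟩ := hχ
  have h1 : ρ.character 1 = (Module.finrank ℂ (Fin n → ℂ) : ℂ) := Representation.char_one ρ
  rw [charDegree_eq_of h1]
  have := hρ
  exact Cfsg.Agent.S0135.result ρ

/-- A character of `p`-defect zero vanishes on `p`-singular elements. -/
theorem defect_zero_vanish [Finite G] {χ : G → ℂ} (hχ : IsIrrCharacter G χ) (p : ℕ) (hp : p.Prime)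
    (hdef : p ^ (Nat.card G).factorization p ∣ charDegree χ) {x : G} (hx : p ∣ orderOf x) :
    χ x = 0 := by
  obtain ⟨n, ρ, hρ, rfl⟩ := hχ
  have h1 : ρ.character 1 = (Module.finrank ℂ (Fin n → ℂ) : ℂ) := Representation.char_one ρ
  rw [charDegree_eq_of h1] at hdef
  have := hρ
  exact Cfsg.Agent.S0165.result ρ p ((Nat.card G).factorization p) hp (Nat.ordProj_dvd _ _)
    (Nat.pow_succ_factorization_not_dvd Nat.card_pos.ne' hp) hdef x hx

/-- If the indicator is `-1` then the fixed space of every subgroup has even dimension. -/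
theorem nu_eq_one_of_odd_mult [Fintype G] {χ : G → ℂ} (hχ : IsIrrCharacter G χ)
    (hreal : ∀ g, (χ g).im = 0) (H : Subgroup G) [Fintype H] (a : ℕ) (ha : Odd a)
    (hmult : classInner (fun h : H => χ h) (fun _ => (1 : ℂ)) = a) : nu χ = 1 := by
  classical
  rcases nu_spec hχ with ⟨_, g, hg⟩ | ⟨h1 | h1, _⟩
  · exact absurd (hreal g) hg
  · exact h1
  exfalso
  obtain ⟨n, ρ, hρ, rfl⟩ := hχ
  have := hρ
  have hinvG : Invertible (Nat.card G : ℂ) := invertibleOfNonzero (by
    exact_mod_cast Nat.card_pos.ne')
  have hinvH : Invertible (Nat.card H : ℂ) := invertibleOfNonzero (by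
    exact_mod_cast Nat.card_pos.ne')
  obtain ⟨ε, hε, h⟩ := Cfsg.Agent.S0158.exists_sign ρ
  have hinv : ∀ g : G, ρ.character g⁻¹ = ρ.character g := by
    intro g
    rw [Cfsg.Agent.S0158.char_inv]
    exact Complex.conj_eq_iff_im.2 (hreal g)
  have hself : (Nat.card G : ℂ)⁻¹ * ∑ g : G, ρ.character g * ρ.character g⁻¹ = 1 := by
    rw [card_inv_mul_sum_char_mul_char_eq_finrank ρ ρ]
    simp
  have hself' : (Nat.card G : ℂ)⁻¹ * ∑ g : G, ρ.character g * ρ.character g = 1 := by
    simpa only [hinv] using hself
  have hν : nu ρ.character = ε := by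
    unfold nu
    rw [Cfsg.Agent.S0158.sum_sq ρ ε h]
    linear_combination ε * hself'
  have hε1 : ε = -1 := by rw [← hν, h1]
  subst hε1
  -- the invariant form
  have hdim : (Nat.card G : ℂ)⁻¹ * ∑ s : G, ρ.character s * ρ.character s
      = (Module.finrank ℂ (IntertwiningMap ρ ρ.dual) : ℂ) := by
    rw [← card_inv_mul_sum_char_mul_char_eq_finrank ρ ρ.dual]
    congr 1
    refine Fintype.sum_equiv (Equiv.inv G) _ _ (fun s => ?_)
    simp only [Equiv.inv_apply, char_dual, inv_inv]
  obtain ⟨f₀, h0⟩ : ∃ f₀ : IntertwiningMap ρ ρ.dual, f₀ ≠ 0 := by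
    by_contra hcon
    push Not at hcon
    have : Subsingleton (IntertwiningMap ρ ρ.dual) :=
      ⟨fun a b => by rw [hcon a, hcon b]⟩
    rw [hself', Module.finrank_zero_of_subsingleton] at hdim
    norm_num at hdim
  have hinj := (Cfsg.Agent.S0158.bijective_of_ne_zero ρ f₀ h0).1
  -- the representation of `H`
  let σ : Representation ℂ H (Fin n → ℂ) := ρ.comp H.subtype
  have hσ : ∀ h : H, σ h = ρ (h : G) := fun h => rfl
  have hcount : (a : ℂ) = (Module.finrank ℂ σ.invariants : ℂ) := by
    rw [← hmult, ← card_inv_mul_sum_char_eq_finrank σ]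
    unfold classInner
    congr 1
    refine Finset.sum_congr rfl fun x _ => ?_
    rw [map_one, mul_one]
    rfl
  have hcount' : a = Module.finrank ℂ σ.invariants := by exact_mod_cast hcount
  -- averaging
  have havg : ∀ v : Fin n → ℂ, (∑ x : H, σ x v) ∈ σ.invariants := by
    intro v y
    rw [map_sum]
    refine Fintype.sum_equiv (Equiv.mulLeft y) _ _ fun x => ?_
    rw [Equiv.coe_mulLeft, map_mul, Module.End.mul_apply]
  let B : LinearMap.BilinForm ℂ σ.invariants :=
    LinearMap.domRestrict₁₂ (show (Fin n → ℂ) →ₗ[ℂ] (Fin n → ℂ) →ₗ[ℂ] ℂ from f₀.toLinearMap)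
      σ.invariants σ.invariants
  have hB : ∀ v w : σ.invariants, B v w = f₀ (v : Fin n → ℂ) (w : Fin n → ℂ) := fun v w => rfl
  have heven : Even (Module.finrank ℂ σ.invariants) := by
    refine Cfsg.Agent.OddHalf.NI.QuatDim.even_of_skew two_ne_zero B ?_ ?_
    · intro v w
      rw [hB, hB, h f₀]
      ring
    · intro v hv
      -- `f₀ v` vanishes on all invariants, hence everywhere
      have h2 : f₀ (v : Fin n → ℂ) = 0 := by
        apply LinearMap.ext
        intro w
        have h3 : f₀ (v : Fin n → ℂ) (∑ x : H, σ x w) = 0 := hv ⟨_, havg w⟩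
        rw [map_sum] at h3
        have h4 : ∀ x : H, f₀ (v : Fin n → ℂ) (σ x w) = f₀ (v : Fin n → ℂ) w := by
          intro x
          have h5 := Cfsg.Agent.S0158.dual_swap ρ f₀ (x : G) (v : Fin n → ℂ) w
          rw [← h5]
          congr 2
          exact (v.2 x).symm
        rw [Finset.sum_congr rfl (fun x _ => h4 x), Finset.sum_const, Finset.card_univ,
          nsmul_eq_mul] at h3
        rcases mul_eq_zero.1 h3 with h6 | h6
        · exact absurd h6 (by exact_mod_cast Fintype.card_ne_zero)
        · rw [h6]; rfl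
      have h7 : (v : Fin n → ℂ) = 0 := by
        apply hinj
        rw [h2]
        exact (map_zero f₀.toLinearMap).symm
      exact Subtype.ext h7
  rw [← hcount'] at heven
  exact (Nat.not_even_iff_odd.2 ha) heven

/-- A sum of natural numbers over the irreducible characters invariant under complex conjugation
and odd has an odd term at a real-valued character. -/
theorem exists_real_of_odd_sum [Fintype G] [Fintype (IrrCharacter G)] (f : IrrCharacter G → ℕ)
    (hf : ∀ χ, f (irrConj χ) = f χ) (hodd : Odd (∑ χ, f χ)) :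
    ∃ χ : IrrCharacter G, (∀ g, ((χ : G → ℂ) g).im = 0) ∧ Odd (f χ) := by
  classical
  by_contra hcon
  push Not at hcon
  have h0 : ((∑ χ, f χ : ℕ) : ZMod 2) = 0 := by
    rw [Nat.cast_sum]
    refine Finset.sum_involution (fun χ _ => irrConj χ) ?_ ?_ ?_ ?_
    · intro χ _
      rw [hf]
      exact CharTwo.add_self_eq_zero _
    · intro χ _ h1 h2
      have h3 := hcon χ ((irrConj_eq_iff χ).1 h2)
      rw [Nat.not_odd_iff_even] at h3
      exact h1 ((ZMod.natCast_eq_zero_iff_even).2 h3)
    · intro χ _
      exact Finset.mem_univ _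
    · intro χ _
      exact irrConj_irrConj χ
  rw [ZMod.natCast_eq_zero_iff_even] at h0
  exact (Nat.not_even_iff_odd.2 hodd) h0

theorem classInner_conj_conj {H : Type u} [Group H] [Fintype H] (φ ψ : H → ℂ) :
    classInner (fun h => conj (φ h)) (fun h => conj (ψ h)) = conj (classInner φ ψ) := by
  unfold classInner
  rw [map_mul, map_inv₀, map_natCast, map_sum]
  congr 1
  refine Finset.sum_congr rfl fun h _ => ?_
  rw [map_mul]

/-- **Real characters over a character of 2-defect zero.** -/
theorem exists_real_over [Fintype G] (N : Subgroup G) [hN : N.Normal] [Fintype N] (S : Sylow 2 G)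
    [Fintype (S : Subgroup G)] {φ : N → ℂ} (hφ : IsIrrCharacter N φ)
    (hdef : 2 ^ (Nat.card N).factorization 2 ∣ charDegree φ)
    (hconj : ∃ g : G, ∀ n : N, φ (MulAut.conjNormal g n) = conj (φ n)) :
    ∃ χ : IrrCharacter G, (∀ g, ((χ : G → ℂ) g).im = 0) ∧ nu (χ : G → ℂ) = 1 ∧
      (∃ e : ℕ, Odd e ∧ classInner (fun n : N => (χ : G → ℂ) n) φ = e) ∧
      ∃ a : ℕ, Odd a ∧
        classInner (fun s : (S : Subgroup G) => (χ : G → ℂ) s) (fun _ => (1 : ℂ)) = a := by
  classical
  have hfin : Finite (IrrCharacter G) := finite_irr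
  have hft : Fintype (IrrCharacter G) := Fintype.ofFinite _
  obtain ⟨c, hc1, hc2⟩ := Cfsg.Agent.CharDeep.CliffordCorr.exists_nat_coeffs_indFun
    (S : Subgroup G) (ψ := fun _ => (1 : ℂ)) isCharacter_one
  choose e he using fun χ : IrrCharacter G =>
    classInner_isNat (isCharacter_restrict N (isIrr_isCharacter χ.2)) (isIrr_isCharacter hφ)
  have he' : ∀ χ : IrrCharacter G, classInner (fun n : N => (χ : G → ℂ) n) φ = e χ := he
  -- the total
  have htot : classInner (fun n : N => indFun (S : Subgroup G) (fun _ => (1 : ℂ)) n) φ =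
      ((∑ χ : IrrCharacter G, c χ * e χ : ℕ) : ℂ) := by
    have h1 : (fun n : N => indFun (S : Subgroup G) (fun _ => (1 : ℂ)) n) =
        ∑ χ : IrrCharacter G, (c χ : ℂ) • (fun n : N => (χ : G → ℂ) n) := by
      funext n
      have := congrFun hc1 n
      rw [this]
      simp only [Finset.sum_apply, Pi.smul_apply]
    rw [h1, classInner_sum_left]
    push_cast
    refine Finset.sum_congr rfl fun χ _ => ?_
    rw [classInner_smul_left, he']
  -- direct computation
  have hdir : (Nat.card N : ℂ) *
      classInner (fun n : N => indFun (S : Subgroup G) (fun _ => (1 : ℂ)) n) φ =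
      (((S : Subgroup G).index * charDegree φ : ℕ) : ℂ) := by
    have hcN : (Nat.card N : ℂ) ≠ 0 := by exact_mod_cast Nat.card_pos.ne'
    unfold classInner
    rw [← mul_assoc, mul_inv_cancel₀ hcN, one_mul, Finset.sum_eq_single (1 : N)]
    · show indFun (S : Subgroup G) (fun _ => (1 : ℂ)) ((1 : N) : G) * conj (φ 1) = _
      rw [OneMemClass.coe_one, Cfsg.Agent.CharactersDeep.NormalInd.indFun_one,
        (charDegree_spec hφ).1, map_natCast]
      push_cast
      ring
    · intro n _ hn
      by_cases h2 : 2 ∣ orderOf n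
      · rw [defect_zero_vanish hφ 2 Nat.prime_two hdef h2, map_zero, mul_zero]
      · have hz : indFun (S : Subgroup G) (fun _ => (1 : ℂ)) (n : G) = 0 := by
          rw [Cfsg.Agent.CharactersDeep.NormalInd.indFun_apply]
          rw [Finset.sum_eq_zero, mul_zero]
          intro x _
          apply Cfsg.Agent.CharactersDeep.NormalInd.extendByZero_of_not_mem
          intro hx
          obtain ⟨k, hk⟩ := S.isPGroup'.exists_orderOf_eq_pow ⟨_, hx⟩
          rw [Subgroup.orderOf_mk] at hk
          have h3 : orderOf (x⁻¹ * (n : G) * x) = orderOf n := by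
            have h4 : x⁻¹ * (n : G) * x = MulAut.conj x⁻¹ (n : G) := by
              rw [MulAut.conj_apply, inv_inv]
            rw [h4, MulEquiv.orderOf_eq, Subgroup.orderOf_coe]
          rw [h3] at hk
          rcases Nat.eq_zero_or_pos k with h5 | h5
          · rw [h5, pow_zero, orderOf_eq_one_iff] at hk
            exact hn hk
          · exact h2 (hk ▸ dvd_pow_self 2 h5.ne')
        show indFun (S : Subgroup G) (fun _ => (1 : ℂ)) (n : G) * conj (φ n) = 0
        rw [hz, zero_mul]
    · intro h
      exact absurd (Finset.mem_univ _) h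
  have hnat : Nat.card N * (∑ χ : IrrCharacter G, c χ * e χ) =
      (S : Subgroup G).index * charDegree φ := by
    rw [htot] at hdir
    exact_mod_cast hdir
  have hoddS : ¬ 2 ∣ (S : Subgroup G).index := S.not_dvd_index
  have hodd : Odd (∑ χ : IrrCharacter G, c χ * e χ) := by
    rw [← Nat.not_even_iff_odd, even_iff_two_dvd]
    intro h2
    set T := ∑ χ : IrrCharacter G, c χ * e χ with hT
    -- compare powers of 2
    have h3 : 2 ^ ((Nat.card N).factorization 2 + 1) ∣ (S : Subgroup G).index * charDegree φ := by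
      rw [← hnat, pow_succ]
      exact mul_dvd_mul (Nat.ordProj_dvd _ _) h2
    have h4 : (2 ^ ((Nat.card N).factorization 2 + 1)).Coprime (S : Subgroup G).index :=
      Nat.Coprime.pow_left _ ((Nat.prime_two.coprime_iff_not_dvd).2 hoddS)
    have h5 : 2 ^ ((Nat.card N).factorization 2 + 1) ∣ Nat.card N :=
      (h4.dvd_of_dvd_mul_left h3).trans (charDegree_dvd hφ)
    exact Nat.pow_succ_factorization_not_dvd Nat.card_pos.ne' Nat.prime_two h5
  -- invariance under conjugation
  have hcconj : ∀ χ : IrrCharacter G, c (irrConj χ) = c χ := by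
    intro χ
    have h1 := hc2 (irrConj χ)
    have h2 := hc2 χ
    have h3 : classInner (fun _ : (S : Subgroup G) => (1 : ℂ))
        (fun h : (S : Subgroup G) => (irrConj χ : G → ℂ) h) =
        conj (classInner (fun _ : (S : Subgroup G) => (1 : ℂ))
          (fun h : (S : Subgroup G) => (χ : G → ℂ) h)) := by
      rw [← classInner_conj_conj]
      simp only [map_one]
      rfl
    rw [h1, h2, Complex.conj_natCast] at h3
    exact_mod_cast h3
  have heconj : ∀ χ : IrrCharacter G, e (irrConj χ) = e χ := by
    intro χ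
    obtain ⟨g, hg⟩ := hconj
    have h1 := he' (irrConj χ)
    have h2 : classInner (fun n : N => (irrConj χ : G → ℂ) n) φ =
        conj (classInner (fun n : N => (χ : G → ℂ) n)
          (φ ∘ (MulAut.conjNormal g : MulAut N))) := by
      rw [← classInner_conj_conj]
      congr 1
      funext n
      simp only [Function.comp_apply]
      rw [hg, Complex.conj_conj]
    rw [classInner_restrict_conjNormal (isIrr_isClassFunction χ.2), he' χ, Complex.conj_natCast,
      h1] at h2
    exact_mod_cast h2
  obtain ⟨χ, hχr, hχo⟩ := exists_real_of_odd_sum (fun χ => c χ * e χ)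
    (fun χ => by simp only [hcconj, heconj]) hodd
  rw [Nat.odd_mul] at hχo
  have hmult : classInner (fun s : (S : Subgroup G) => (χ : G → ℂ) s) (fun _ => (1 : ℂ)) =
      c χ := by
    rw [← classInner_conj_symm, hc2, Complex.conj_natCast]
  exact ⟨χ, hχr, nu_eq_one_of_odd_mult χ.2 hχr (S : Subgroup G) (c χ) hχo.1 hmult,
    ⟨e χ, hχo.2, he' χ⟩, ⟨c χ, hχo.1, hmult⟩⟩

end Cfsg.Agent.H692.RealOver
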