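import Mathlib
import Cfsg.Prelude.Def_Characters
import Cfsg.Prelude.Def_Blocks
import Cfsg.Agent.Characters.Core
import Cfsg.Agent.Characters.Clifford
import Cfsg.Agent.CharactersDeep.NormalInd
import Cfsg.Agent.CharDeep.CliffordCorr
import Cfsg.Agent.S0887
set_option linter.all false

/-!
# The degree formula of Clifford theory
-/

set_option autoImplicit false
open Cfsg

namespace Cfsg.Agent.H692.Cliff

open Cfsg.Agent.Characters.Core Cfsg.Agent.Characters.Clifford
open scoped ComplexConjugate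

universe u
variable {G : Type u} [Group G]

/-- The stabilizer of a function on a normal subgroup. -/
def stab (N : Subgroup G) [hN : N.Normal] (φ : N → ℂ) : Subgroup G where
  carrier := {g | ∀ n : N, φ ⟨g * n * g⁻¹, hN.conj_mem n n.2 g⟩ = φ n}
  mul_mem' := by
    intro a b ha hb n
    have h1 := ha ⟨b * n * b⁻¹, hN.conj_mem n n.2 b⟩
    have h2 := hb n
    rw [← h2, ← h1]
    congr 2
    simp only
    group
  one_mem' := by
    intro n
    congr 1
    ext
    simp
  inv_mem' := by
    intro a ha n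
    have h1 := ha ⟨a⁻¹ * n * a⁻¹⁻¹, hN.conj_mem n n.2 a⁻¹⟩
    rw [← h1]
    congr 2
    simp only
    group

theorem mem_stab {N : Subgroup G} [hN : N.Normal] {φ : N → ℂ} {g : G} :
    g ∈ stab N φ ↔ ∀ n : N, φ ⟨g * n * g⁻¹, hN.conj_mem n n.2 g⟩ = φ n := Iff.rfl

theorem mem_stab' {N : Subgroup G} [hN : N.Normal] {φ : N → ℂ} {g : G} :
    g ∈ stab N φ ↔ ∀ n : N, φ (MulAut.conjNormal g n) = φ n := Iff.rfl

theorem le_stab {N : Subgroup G} [hN : N.Normal] {φ : N → ℂ} (hφ : IsClassFunction N φ) :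
    N ≤ stab N φ := by
  intro g hg n
  have h := hφ n ⟨g, hg⟩
  rw [← h]
  rfl

/-- **Degree formula**: `χ 1 = [G : T] e φ 1` with `T` the stabilizer of `φ` and `e` the multiplicity
of `φ` in the restriction of `χ`. -/
theorem degree_formula [Fintype G] (N : Subgroup G) [hN : N.Normal] [Fintype N] {φ : N → ℂ}
    (hφ : IsIrrCharacter N φ) {χ : G → ℂ} (hχ : IsIrrCharacter G χ)
    (hcon : classInner (fun n : N => χ n) φ ≠ 0) :
    χ 1 = (stab N φ).index * (classInner (fun n : N => χ n) φ * φ 1) := by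
  classical
  have hNT : N ≤ stab N φ := le_stab (isIrr_isClassFunction hφ)
  obtain ⟨ψ, h1, h2, h3⟩ := Cfsg.Agent.CharDeep.CliffordCorr.clifford_correspondence N φ hφ
    (stab N φ) (fun g => mem_stab) hNT χ hχ hcon
  have h4 := Cfsg.Agent.CharDeep.CliffordCorr.restrict_eq_mul_of_invariant N (stab N φ) hNT h1 hφ
    (fun g hg => mem_stab.1 hg) (by rw [h3]; exact hcon) 1
  rw [h3] at h4
  have h5 : ψ 1 = classInner (fun n : N => χ n) φ * φ 1 := by
    rw [← h4]
    rfl
  rw [← h5, ← Cfsg.Agent.CharactersDeep.NormalInd.indFun_one, h2]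

/-- Natural number version of the degree formula, with the divisibility by the index. -/
theorem degree_formula_nat [Fintype G] (N : Subgroup G) [hN : N.Normal] [Fintype N] {φ : N → ℂ}
    (hφ : IsIrrCharacter N φ) {χ : G → ℂ} (hχ : IsIrrCharacter G χ) {e : ℕ} (he : e ≠ 0)
    (hcon : classInner (fun n : N => χ n) φ = e) :
    charDegree χ = (stab N φ).index * e * charDegree φ ∧ (stab N φ).index * e ∣ N.index := by
  obtain ⟨c, hc0, hc⟩ := isIrr_apply_one hχ
  obtain ⟨d, hd0, hd⟩ := isIrr_apply_one hφ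
  have hc' : charDegree χ = c := by
    unfold charDegree
    rw [hc]
    simp
  have hd' : charDegree φ = d := by
    unfold charDegree
    rw [hd]
    simp
  have hne : classInner (fun n : N => χ n) φ ≠ 0 := by
    rw [hcon]
    exact_mod_cast he
  have h1 := degree_formula N hφ hχ hne
  rw [hc, hcon, hd] at h1
  have h2 : c = (stab N φ).index * e * d := by
    have : (c : ℂ) = (((stab N φ).index * e * d : ℕ) : ℂ) := by
      rw [h1]
      push_cast
      ring
    exact_mod_cast this
  refine ⟨by rw [hc', hd', h2], ?_⟩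
  obtain ⟨h3, h4⟩ := Cfsg.Agent.S0887.result N χ hχ φ hφ hne c d hc hd
  rwa [h2, Nat.mul_div_cancel _ hd0] at h4

end Cfsg.Agent.H692.Cliff
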