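import Cfsg.Agent.H383.Cube.DC_m3
import Cfsg.Agent.KFacts.SuzInvol
import Cfsg.Agent.SuzThree.CentCard
import Cfsg.Agent.SuzThree.Transport
import Cfsg.Agent.CTwoTab.Suz
import Cfsg.Agent.H771.KTools_m3
import Cfsg.Agent.UAlt.AutFive
import Cfsg.Agent.KFacts.HS.Base
import Cfsg.Agent.HN.Classes
import Mathlib
import Cfsg.Agent.H269.CubeJ2
import Cfsg.Agent.OddHalf.D4.Spor.J1Out
import Cfsg.Agent.UGT.EndJ1.Data
import Cfsg.Agent.FastGrp
import Cfsg.Agent.Prune
set_option linter.all false

-- part: H692/CubeSuz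
section
set_option linter.all false
open scoped Cfsg.Agent.FastGrp

/-!
# `CubeBound` for the sporadic Suzuki group (helper692, S5721)

Inner involutions: centralizers of orders 3317760 and 161280; outer involutory automorphisms are conjugate to
`ρ` (centralizer `J₂:2`, here: order at least `1050 · 24`) or `σ` (centralizer `M₁₂:2`, here: order at least `990 · 24`).
-/

set_option autoImplicit false
set_option maxRecDepth 100000
set_option exponentiation.threshold 4000

namespace Cfsg.Agent.H692.CubeSuz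

open Cfsg.Spor (Suz)
open Cfsg.Agent.H383.Cube
open Cfsg.Agent.KFacts.SuzRho Cfsg.Agent.SporadicRecognition.SuzOrder Cfsg.Agent.SporadicRecognition.SuzPhi
open Cfsg.Agent.Lib.PermNet Cfsg.Agent.Lib.PermNetOrbit
open Cfsg.Agent.KFacts.SuzInvol Cfsg.Agent.SuzThree.Basic

/-- the permutation representation restricted to the fixed points of `α` -/
noncomputable def ψ (α : MulAut Suz) : ↥(fix α) →* Equiv.Perm ℕ := φ.comp (fix α).subtype

theorem img (α : MulAut Suz) (ws : List (List Suz.Gen)) (h : ∀ w ∈ ws, α (el w) = el w) :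
    ∀ w ∈ ws.map wd, ∃ g : ↥(fix α), ψ α g = wperm w := by
  intro w hw
  obtain ⟨u, hu, rfl⟩ := List.mem_map.1 hw
  exact ⟨⟨el u, h u hu⟩, φ_el u⟩

theorem wsok' (ws : List (List Suz.Gen)) : WsOk (2 ^ 11) (ws.map wd) := by
  intro w hw
  obtain ⟨u, -, rfl⟩ := List.mem_map.1 hw
  exact wd_ok u

def J1 : List (List Suz.Gen) := [[.a], [.b], [.c], [.d], [.e]]
def J2 : List (List Suz.Gen) := [[.e], [.b, .c], [.a, .b, .a]]
def M1 : List (List Suz.Gen) := [[.a], [.b], [.e, .d, .c, .d, .e], [.d], [.c, .d, .c, .d, .f, .g]]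
def M2 : List (List Suz.Gen) := [[.d], [.b, .e, .d, .c, .d, .e], [.a, .b, .a]]


theorem fixJ : ∀ w ∈ J1, rho (el w) = el w := by
  intro w hw
  simp only [J1, List.mem_cons, List.not_mem_nil, or_false] at hw
  rcases hw with rfl | rfl | rfl | rfl | rfl <;> exact rho_el _

theorem fixJ' : ∀ w ∈ J2, rho (el w) = el w := by
  intro w hw
  simp only [J2, List.mem_cons, List.not_mem_nil, or_false] at hw
  rcases hw with rfl | rfl | rfl <;> exact rho_el _

theorem fixM : ∀ w ∈ M1, sigma (el w) = el w := by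
  intro w hw
  rw [sigma_el]
  simp only [M1, List.mem_cons, List.not_mem_nil, or_false] at hw
  rcases hw with rfl | rfl | rfl | rfl | rfl
  · exact eq_of_reps (Rep.el _) (Rep.el _) (by decide +kernel)
  · exact eq_of_reps (Rep.el _) (Rep.el _) (by decide +kernel)
  · exact eq_of_reps (Rep.el _) (Rep.el _) (by decide +kernel)
  · exact eq_of_reps (Rep.el _) (Rep.el _) (by decide +kernel)
  · exact eq_of_reps (Rep.el _) (Rep.el _) (by decide +kernel)

theorem fixM' : ∀ w ∈ M2, sigma (el w) = el w := by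
  intro w hw
  rw [sigma_el]
  simp only [M2, List.mem_cons, List.not_mem_nil, or_false] at hw
  rcases hw with rfl | rfl | rfl
  · exact eq_of_reps (Rep.el _) (Rep.el _) (by decide +kernel)
  · exact eq_of_reps (Rep.el _) (Rep.el _) (by decide +kernel)
  · exact eq_of_reps (Rep.el _) (Rep.el _) (by decide +kernel)

theorem rho1 : 1050 * Nat.card (stabL (ψ rho) [21]) ≤ Nat.card (stabL (ψ rho) []) :=
  stabL_step_of_check (ψ rho) (k := 11) [] 21 1050 8 (wsok' J1) (img rho J1 fixJ) (by decide +kernel)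
    (by decide +kernel) (by decide +kernel)

theorem rho2 : 24 * Nat.card (stabL (ψ rho) [14, 21]) ≤ Nat.card (stabL (ψ rho) [21]) :=
  stabL_step_of_check (ψ rho) (k := 11) [21] 14 24 8 (wsok' J2) (img rho J2 fixJ') (by decide +kernel)
    (by decide +kernel) (by decide +kernel)

theorem sig1 : 990 * Nat.card (stabL (ψ sigma) [63]) ≤ Nat.card (stabL (ψ sigma) []) :=
  stabL_step_of_check (ψ sigma) (k := 11) [] 63 990 8 (wsok' M1) (img sigma M1 fixM) (by decide +kernel)
    (by decide +kernel) (by decide +kernel)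

theorem sig2 : 24 * Nat.card (stabL (ψ sigma) [28, 63]) ≤ Nat.card (stabL (ψ sigma) [63]) :=
  stabL_step_of_check (ψ sigma) (k := 11) [63] 28 24 8 (wsok' M2) (img sigma M2 fixM') (by decide +kernel)
    (by decide +kernel) (by decide +kernel)

theorem card_rho : 7654 ≤ Nat.card {t : Suz // rho t = t} := by
  have h1 := rho1
  have h2 := rho2
  have h3 : 0 < Nat.card (stabL (ψ rho) [14, 21]) := Nat.card_pos
  have h4 : Nat.card (stabL (ψ rho) []) ≤ Nat.card ↥(fix rho) :=
    Nat.card_le_card_of_injective _ Subtype.val_injective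
  rw [card_fix] at h4
  omega

theorem card_sigma : 7654 ≤ Nat.card {t : Suz // sigma t = t} := by
  have h1 := sig1
  have h2 := sig2
  have h3 : 0 < Nat.card (stabL (ψ sigma) [28, 63]) := Nat.card_pos
  have h4 : Nat.card (stabL (ψ sigma) []) ≤ Nat.card ↥(fix sigma) :=
    Nat.card_le_card_of_injective _ Subtype.val_injective
  rw [card_fix] at h4
  omega

/-- conjugate automorphisms have equally many fixed points -/
theorem card_conj {G : Type*} [Group G] (α β : MulAut G) :
    Nat.card {t : G // (β * α * β⁻¹) t = t} = Nat.card {t : G // α t = t} := by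
  refine Nat.card_congr (β.symm.toEquiv.subtypeEquiv fun a => ?_)
  change β (α (β.symm a)) = a ↔ α (β.symm a) = β.symm a
  constructor
  · intro h
    apply β.injective
    rw [h, MulEquiv.apply_symm_apply]
  · intro h
    rw [h, MulEquiv.apply_symm_apply]

/-- fixed points of inner automorphisms -/
theorem card_inner {G : Type*} [Group G] (s : G) :
    Nat.card {t : G // MulAut.conj s t = t} = Nat.card ↥(Subgroup.centralizer ({s} : Set G)) := by
  refine Nat.card_congr (Equiv.subtypeEquivRight fun t => ?_)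
  rw [Subgroup.mem_centralizer_singleton_iff, MulAut.conj_apply, mul_inv_eq_iff_eq_mul]
  exact eq_comm

theorem card_of_isConj {s t : Suz} (h : IsConj s t) : Nat.card ↥(Subgroup.centralizer ({t} : Set Suz)) =
    Nat.card ↥(Subgroup.centralizer ({s} : Set Suz)) := by
  obtain ⟨c, rfl⟩ := isConj_iff.1 h
  have h1 := CTwoTab.map_centralizer_singleton (MulAut.conj c) s
  rw [show c * s * c⁻¹ = MulAut.conj c s from rfl, ← h1]
  exact Subgroup.card_map_of_injective (MulAut.conj c).injective

theorem cube_suz_model : CubeBound Suz := by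
  intro α hα
  have hsq : α * α = 1 := mul_self_of_order hα
  have hα1 : α ≠ 1 := by
    rintro rfl
    rw [orderOf_one] at hα
    omega
  suffices h : 7654 ≤ Nat.card {t : Suz // α t = t} by
    rw [card_Suz]
    calc 448345497600 < 7654 ^ 3 := by norm_num
      _ ≤ _ := Nat.pow_le_pow_left h 3
  by_cases hin : ∃ s, α = MulAut.conj s
  · obtain ⟨s, rfl⟩ := hin
    have hs2 : s * s = 1 := by
      apply conj_eq_one
      rw [map_mul, hsq]
    have hs1 : s ≠ 1 := by
      rintro rfl
      exact hα1 (map_one _)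
    rw [card_inner]
    rcases CTwoTab.Suz.classes hs2 hs1 with hc | hc
    · rw [card_of_isConj hc]
      have h1 : Nat.card ↥(Subgroup.centralizer ({Cfsg.Agent.SuzThree.CentA.z0} : Set Suz)) = 3317760 :=
        SuzThree.CentCard.card_C1
      rw [h1]
      norm_num
    · rw [card_of_isConj hc]
      have h1 : Nat.card ↥(Subgroup.centralizer ({KFacts.SuzLFour.e0} : Set Suz)) = 161280 := KFacts.SuzTwoB.card_CE
      rw [h1]
      norm_num
  · refine outer_ind (Q := fun α => 7654 ≤ Nat.card {t : Suz // α t = t}) ⟨?_, ?_⟩ hsq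
      (fun ⟨s, hs⟩ => hin ⟨s, hs.symm⟩)
    · intro al g h
      rwa [card_conj]
    · intro s
      cases s
      · exact card_rho
      · exact card_sigma

theorem cube_Suz {G : Type*} [Group G] (h : Cfsg.Spor.IsoSuz G) : CubeBound G := by
  obtain ⟨e⟩ := h
  exact cube_suz_model.congr e.symm

end Cfsg.Agent.H692.CubeSuz

private theorem dce_6f6f66a55e0b : _root_.True := by
  try have : _root_.True := by simp only [_root_.Cfsg.Agent.H692.CubeSuz.J2.eq_1]
  try have : _root_.True := by simp only [_root_.Cfsg.Agent.H692.CubeSuz.M2.eq_1]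
  try have : _root_.True := by simp only [_root_.Cfsg.Agent.H692.CubeSuz.M1.eq_1]
  try have : _root_.True := by simp only [_root_.Cfsg.Agent.H692.CubeSuz.J1.eq_1]
  exact _root_.True.intro
end

-- part: H177/CubeAlt
section
set_option linter.all false
open scoped Cfsg.Agent.FastGrp

/-!
# The cube bound for the alternating groups (helper177, for S5721/S5718)

`cube_alt`: `|A_n| < |C_{A_n}(α)| ^ 3` for every automorphism `α` of order two, `n ≥ 5`.
-/

set_option autoImplicit false

open Equiv Equiv.Perm Subgroup Nat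

namespace Cfsg.Agent.H177.CubeAlt

open Cfsg.Agent.H383.Cube

/-- the inequality between the orders -/
theorem ineq : ∀ n k : ℕ, 5 ≤ n → 1 ≤ k → 2 * k ≤ n → 4 * n ! < (2 ^ k * k ! * (n - 2 * k)!) ^ 3 := by
  intro n
  induction n using Nat.strong_induction_on with
  | _ n ih =>
    intro k h5 hk hkn
    rcases Nat.lt_or_ge n 7 with h7 | h7
    · interval_cases n
      · have hk' : k ≤ 2 := by omega
        interval_cases k <;> decide
      · have hk' : k ≤ 3 := by omega
        interval_cases k <;> decide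
    · obtain ⟨m, hm⟩ : ∃ m, n = 2 * k + m := ⟨n - 2 * k, by omega⟩
      have hm' : n - 2 * k = m := by omega
      rw [hm']
      by_cases hc : n ≤ m ^ 3
      · have hm1 : 1 ≤ m := by
          rcases Nat.eq_zero_or_pos m with h0 | h0
          · rw [h0] at hc; norm_num at hc; omega
          · exact h0
        obtain ⟨j, rfl⟩ : ∃ j, m = j + 1 := ⟨m - 1, by omega⟩
        obtain ⟨n', rfl⟩ : ∃ n', n = n' + 1 := ⟨n - 1, by omega⟩
        have h1 := ih n' (by omega) k (by omega) hk (by omega)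
        have h2 : n' - 2 * k = j := by omega
        rw [h2] at h1
        calc 4 * (n' + 1)! = (n' + 1) * (4 * n' !) := by rw [Nat.factorial_succ]; ring
          _ < (n' + 1) * (2 ^ k * k ! * j !) ^ 3 := Nat.mul_lt_mul_of_pos_left h1 (by omega)
          _ ≤ (j + 1) ^ 3 * (2 ^ k * k ! * j !) ^ 3 := Nat.mul_le_mul_right _ hc
          _ = (2 ^ k * k ! * (j + 1)!) ^ 3 := by rw [Nat.factorial_succ]; ring
      · push Not at hc
        have hk2 : 2 ≤ k := by
          by_contra hk2
          have : k = 1 := by omega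
          subst this
          have h3 : n ≤ m ^ 3 := by
            have h4 : 5 ≤ m := by omega
            calc n = m + 2 := by omega
              _ ≤ m * (5 * 5) := by omega
              _ ≤ m * (m * m) := Nat.mul_le_mul_left _ (Nat.mul_le_mul h4 h4)
              _ = m ^ 3 := by ring
          omega
        obtain ⟨k', rfl⟩ : ∃ k', k = k' + 1 := ⟨k - 1, by omega⟩
        obtain ⟨n', rfl⟩ : ∃ n', n = n' + 2 := ⟨n - 2, by omega⟩
        have h1 := ih n' (by omega) k' (by omega) (by omega) (by omega)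
        have h2 : n' - 2 * k' = m := by omega
        rw [h2] at h1
        -- the key inequality
        have h3 : (n' + 2) * (n' + 1) ≤ (2 * (k' + 1)) ^ 3 := by
          have h4 : 2 * m ≤ n' + 2 := by
            by_contra h4
            push Not at h4
            have h5' : 4 ≤ m := by omega
            have : n' + 2 ≤ m ^ 3 := by
              calc n' + 2 ≤ m * (4 * 4) := by omega
                _ ≤ m * (m * m) := Nat.mul_le_mul_left _ (Nat.mul_le_mul h5' h5')
                _ = m ^ 3 := by ring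
            omega
          rcases Nat.lt_or_ge n' 6 with h6 | h6
          · have h7' : n' = 5 := by omega
            subst h7'
            have h8 : m ≤ 1 := by
              by_contra h8
              push Not at h8
              have : 2 ^ 3 ≤ m ^ 3 := Nat.pow_le_pow_left h8 3
              omega
            have h9 : k' + 1 = 3 := by omega
            rw [h9]
            norm_num
          · have h8 : n' + 2 ≤ 2 * (2 * (k' + 1)) := by omega
            have h9 : (n' + 2) ^ 3 ≤ 8 * (2 * (k' + 1)) ^ 3 := by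
              calc (n' + 2) ^ 3 ≤ (2 * (2 * (k' + 1))) ^ 3 := Nat.pow_le_pow_left h8 3
                _ = 8 * (2 * (k' + 1)) ^ 3 := by ring
            have h10 : 8 * ((n' + 2) * (n' + 1)) ≤ (n' + 2) ^ 3 := by
              calc 8 * ((n' + 2) * (n' + 1)) ≤ (n' + 2) * ((n' + 2) * (n' + 1)) :=
                    Nat.mul_le_mul_right _ (by omega)
                _ ≤ (n' + 2) * ((n' + 2) * (n' + 2)) :=
                    Nat.mul_le_mul_left _ (Nat.mul_le_mul_left _ (by omega))
                _ = (n' + 2) ^ 3 := by ring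
            omega
        calc 4 * (n' + 2)! = ((n' + 2) * (n' + 1)) * (4 * n' !) := by
              rw [Nat.factorial_succ, Nat.factorial_succ]; ring
          _ < ((n' + 2) * (n' + 1)) * (2 ^ k' * k' ! * m !) ^ 3 := Nat.mul_lt_mul_of_pos_left h1 (by positivity)
          _ ≤ (2 * (k' + 1)) ^ 3 * (2 ^ k' * k' ! * m !) ^ 3 := Nat.mul_le_mul_right _ h3
          _ = (2 ^ (k' + 1) * (k' + 1)! * m !) ^ 3 := by rw [Nat.factorial_succ]; ring

/-- the order of the centralizer of an involution of the symmetric group -/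
theorem card_centralizer {n : ℕ} (s : Perm (Fin n)) (hs : s * s = 1) (hs1 : s ≠ 1) :
    ∃ k, 1 ≤ k ∧ 2 * k ≤ n ∧ Nat.card (centralizer ({s} : Set (Perm (Fin n)))) = 2 ^ k * k ! * (n - 2 * k)! := by
  have ho : orderOf s = 2 := orderOf_eq_prime (by rw [sq, hs]) hs1
  obtain ⟨k, hk⟩ := cycleType_prime_order (σ := s) (by rw [ho]; exact Nat.prime_two)
  rw [ho] at hk
  refine ⟨k + 1, by omega, ?_, ?_⟩
  · have h1 := sum_cycleType_le s
    rw [hk, Multiset.sum_replicate, Fintype.card_fin, smul_eq_mul] at h1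
    omega
  · rw [nat_card_centralizer, hk, Multiset.sum_replicate, Multiset.prod_replicate, Fintype.card_fin, smul_eq_mul]
    have h2 : (Multiset.replicate (k + 1) 2).toFinset = {2} := by
      ext x
      rw [Multiset.mem_toFinset, Multiset.mem_replicate, Finset.mem_singleton]
      exact ⟨fun h => h.2, fun h => ⟨by omega, h⟩⟩
    rw [h2, Finset.prod_singleton, Multiset.count_replicate_self, Nat.mul_comm (k + 1) 2]
    ring

/-- **The cube bound for the alternating groups.** -/
theorem cube_alt (n : ℕ) (hn : 5 ≤ n) : CubeBound (alternatingGroup (Fin n)) := by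
  by_cases h6 : n = 6
  · subst h6
    refine CubeBound.of_card_conjClasses Cfsg.Agent.H525.AltK.alt_six ?_
    rw [nat_card_alternatingGroup, Nat.card_eq_fintype_card, Fintype.card_fin]
    decide
  intro α hα
  obtain ⟨ψ, hψ⟩ := Cfsg.Agent.UAlt.AutFive.exists_autHom_fin n hn h6
  have hs : ψ α * ψ α = 1 := by rw [← map_mul, mul_self_of_order hα, map_one]
  have hs1 : ψ α ≠ 1 := by
    intro h
    have h1 : α = 1 := by
      ext x : 2
      rw [hψ, h]
      simp
    rw [h1, orderOf_one] at hα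
    omega
  obtain ⟨k, hk, hkn, hc⟩ := card_centralizer (ψ α) hs hs1
  have : Nontrivial (Fin n) := Fin.nontrivial_iff_two_le.2 (by omega)
  -- the fixed points of α
  have h1 : Nat.card {t : alternatingGroup (Fin n) // α t = t} =
      Nat.card ((alternatingGroup (Fin n)).subgroupOf (centralizer ({ψ α} : Set (Perm (Fin n))))) := by
    apply Nat.card_congr
    exact
      { toFun := fun x => ⟨⟨((x : alternatingGroup (Fin n)) : Perm (Fin n)), by
          rw [mem_centralizer_singleton_iff]
          have h := hψ α x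
          rw [x.2] at h
          exact (eq_mul_inv_iff_mul_eq.1 h)⟩, (x : alternatingGroup (Fin n)).2⟩
        invFun := fun x => ⟨⟨(x : centralizer ({ψ α} : Set (Perm (Fin n)))), x.2⟩, by
          apply Subtype.ext
          rw [hψ]
          have h := mem_centralizer_singleton_iff.1 (x : centralizer ({ψ α} : Set (Perm (Fin n)))).2
          rw [mul_inv_eq_iff_eq_mul]
          exact h.symm⟩
        left_inv := fun x => rfl
        right_inv := fun x => rfl }
  have h2 : Nat.card (centralizer ({ψ α} : Set (Perm (Fin n)))) ≤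
      2 * Nat.card {t : alternatingGroup (Fin n) // α t = t} := by
    have e1 : (alternatingGroup (Fin n)).relIndex (centralizer ({ψ α} : Set (Perm (Fin n)))) ∣ 2 := by
      have := Subgroup.relIndex_dvd_index_of_normal (alternatingGroup (Fin n))
        (centralizer ({ψ α} : Set (Perm (Fin n))))
      rwa [alternatingGroup.index_eq_two] at this
    have e2 := Nat.le_of_dvd (by norm_num) e1
    have e3 := Subgroup.card_mul_index ((alternatingGroup (Fin n)).subgroupOf
      (centralizer ({ψ α} : Set (Perm (Fin n)))))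
    rw [← h1] at e3
    rw [Subgroup.relIndex] at e2
    rw [← e3, Nat.mul_comm]
    exact Nat.mul_le_mul_right _ e2
  have h3 := ineq n k hn hk hkn
  rw [← hc] at h3
  have h4 : 2 * Nat.card (alternatingGroup (Fin n)) = n ! := by
    have := two_mul_nat_card_alternatingGroup (α := Fin n)
    rw [this, Nat.card_perm, Nat.card_eq_fintype_card, Fintype.card_fin]
  have h5 : Nat.card (centralizer ({ψ α} : Set (Perm (Fin n)))) ^ 3 ≤
      (2 * Nat.card {t : alternatingGroup (Fin n) // α t = t}) ^ 3 := Nat.pow_le_pow_left h2 3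
  rw [mul_pow] at h5
  omega

end Cfsg.Agent.H177.CubeAlt
end

-- part: H692/CubeHS
section
set_option linter.all false
open scoped Cfsg.Agent.FastGrp

/-!
# `CubeBound` for the Higman–Sims group (helper692, S5721)

`Aut(HS) = H0 / ⟨τ⟩`, `H0 = 2.HS.2`; an automorphism of order two is induced by a conjugate of `a`, `x`, `z` or `d`
(classes 2A, 2B, 2C, 2D); in each case words for at least 354 fixed elements are given (orbits on the 100 points).
-/

set_option autoImplicit false
set_option maxRecDepth 100000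

namespace Cfsg.Agent.H692.CubeHS

open Cfsg.Agent.HN Cfsg.Agent.HN.Pres Cfsg.Agent.HN.HS100 Cfsg.Agent.HN.P1408 Cfsg.Agent.HN.H0Basic
open Cfsg.Agent.HN.Classes (t1 φ_hw_apply)
open Cfsg.Agent.KFacts.HS Cfsg.Agent.H383.Cube Equiv

/-- equality modulo `τ` -/
def eqt (u v : List ℕ) : Bool := eqw u v || eqw u (v ++ [0, 0])

theorem eqt_spec {u v : List ℕ} (h : eqt u v = true) : φ (hw u) = φ (hw v) := by
  rw [φ_eq_iff]
  unfold eqt at h
  rw [Bool.or_eq_true] at h
  rcases h with h | h
  · exact Or.inl (hw_eq h)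
  · right
    have := hw_eq h
    rwa [hw_append, hw_τ] at this

/-- words in the generators -/
def cat (gens : List (List ℕ)) (w : List ℕ) : List ℕ := w.flatMap fun i => gens.getD i []

/-- the elements of `K` commuting with `u` modulo `τ` -/
def Cm (u : H0) : Subgroup H0 := (Subgroup.centralizer {φ u}).comap φ ⊓ K

theorem mem_Cm {u x : H0} : x ∈ Cm u ↔ φ x * φ u = φ u * φ x ∧ x ∈ K := by
  rw [Cm, Subgroup.mem_inf, Subgroup.mem_comap, Subgroup.mem_centralizer_singleton_iff]

/-- the check of the generators -/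
def ok (uw : List ℕ) (gens : List (List ℕ)) : Bool :=
  gens.all fun g => okw g && (!par g && eqt (g ++ uw) (uw ++ g))

theorem mem_of_ok {uw : List ℕ} {gens : List (List ℕ)} (h : ok uw gens = true) (i : ℕ) :
    hw (gens.getD i []) ∈ Cm (hw uw) := by
  rw [ok, List.all_eq_true] at h
  by_cases hi : i < gens.length
  · have h1 := h (gens.getD i []) (by rw [List.getD_eq_getElem _ _ hi]; exact List.getElem_mem hi)
    rw [Bool.and_eq_true, Bool.and_eq_true, Bool.not_eq_true'] at h1
    refine mem_Cm.2 ⟨?_, mem_K_of_par h1.1 h1.2.1⟩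
    rw [← map_mul, ← map_mul, ← hw_append, ← hw_append]
    exact eqt_spec h1.2.2
  · rw [List.getD_eq_default _ _ (by omega)]
    rw [show hw ([] : List ℕ) = 1 from rfl]
    exact one_mem _

theorem cat_mem {uw : List ℕ} {gens : List (List ℕ)} (h : ok uw gens = true) (w : List ℕ) :
    hw (cat gens w) ∈ Cm (hw uw) := by
  induction w with
  | nil => exact one_mem _
  | cons i w ih =>
    rw [show cat gens (i :: w) = gens.getD i [] ++ cat gens w from rfl, hw_append]
    exact mul_mem (mem_of_ok h i) ih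

/-- the image of the point `p` -/
def im (gens : List (List ℕ)) (p : ℕ) (w : List ℕ) : ℕ := t1 (cat gens w) p

section

variable {L : Type*} [Group L] (D : KFacts.HS.Mod L)

theorem pi_eq (k l : K) : D.π k = D.π l ↔ φ (k : H0) = φ (l : H0) := by
  rw [D.eq_iff, φ_eq_iff]

theorem fix_of_mem {u x : H0} (hx : x ∈ Cm u) : D.au u (D.π ⟨x, (mem_Cm.1 hx).2⟩) = D.π ⟨x, (mem_Cm.1 hx).2⟩ := by
  rw [D.au_π, pi_eq]
  change φ (u * x * u⁻¹) = φ x
  rw [map_mul, map_mul, map_inv, ← (mem_Cm.1 hx).1]
  group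

/-- **the bound** -/
theorem bound [Finite L] {uw : List ℕ} {gens : List (List ℕ)} (h : ok uw gens = true) (p q : ℕ) (hp : p < 100)
    (hq : q < 100) (A B : List (List ℕ)) (hA : (A.map (im gens p)).Nodup) (hB : B.all (fun w => im gens p w == p) = true)
    (hB' : (B.map (im gens q)).Nodup) : A.length * B.length ≤ Nat.card {t : L // D.au (hw uw) t = t} := by
  let e : List ℕ → H0 := fun w => hw (cat gens w)
  have he : ∀ w, e w ∈ Cm (hw uw) := fun w => cat_mem h w
  have himg : ∀ (w : List ℕ) (i : Fin 100), ((φ (e w) i : Fin 100) : ℕ) = im gens i w := fun w i => φ_hw_apply _ i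
  have hfin : Nat.card (Fin A.length × Fin B.length) = A.length * B.length := by
    rw [Nat.card_prod, Nat.card_fin, Nat.card_fin]
  rw [← hfin]
  refine Nat.card_le_card_of_injective (fun ij : Fin A.length × Fin B.length =>
    (⟨D.π ⟨e (A.get ij.1) * e (B.get ij.2), (mem_Cm.1 (mul_mem (he _) (he _))).2⟩,
      fix_of_mem D (mul_mem (he _) (he _))⟩ : {t : L // D.au (hw uw) t = t})) ?_
  rintro ⟨i, j⟩ ⟨i', j'⟩ hij
  have h1 : φ (e (A.get i) * e (B.get j)) = φ (e (A.get i') * e (B.get j')) :=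
    (pi_eq D _ _).1 (congrArg (fun z : {t : L // D.au (hw uw) t = t} => (z : L)) hij)
  rw [map_mul, map_mul] at h1
  have hBp : ∀ j : Fin B.length, φ (e (B.get j)) ⟨p, hp⟩ = ⟨p, hp⟩ := by
    intro j
    apply Fin.ext
    rw [himg]
    have h2 := List.all_eq_true.1 hB (B.get j) (List.get_mem _ _)
    exact beq_iff_eq.1 h2
  have h2 : φ (e (A.get i)) ⟨p, hp⟩ = φ (e (A.get i')) ⟨p, hp⟩ := by
    have h3 := congrArg (fun s : Perm (Fin 100) => s ⟨p, hp⟩) h1
    simp only [Perm.mul_apply, hBp] at h3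
    exact h3
  have h3 : im gens p (A.get i) = im gens p (A.get i') := by
    rw [← himg _ ⟨p, hp⟩, ← himg _ ⟨p, hp⟩, h2]
  have hii : i = i' := by
    have h4 := List.nodup_iff_injective_get.1 hA
    have h5 : (⟨i, by rw [List.length_map]; exact i.2⟩ : Fin (A.map (im gens p)).length) =
        ⟨i', by rw [List.length_map]; exact i'.2⟩ := by
      apply h4
      simp only [List.get_eq_getElem, List.getElem_map]
      exact h3
    exact Fin.ext (Fin.mk.inj h5)
  subst hii
  have h6 : φ (e (B.get j)) = φ (e (B.get j')) := mul_left_cancel h1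
  have h7 : im gens q (B.get j) = im gens q (B.get j') := by
    rw [← himg _ ⟨q, hq⟩, ← himg _ ⟨q, hq⟩, h6]
  have hjj : j = j' := by
    have h4 := List.nodup_iff_injective_get.1 hB'
    have h5 : (⟨j, by rw [List.length_map]; exact j.2⟩ : Fin (B.map (im gens q)).length) =
        ⟨j', by rw [List.length_map]; exact j'.2⟩ := by
      apply h4
      simp only [List.get_eq_getElem, List.getElem_map]
      exact h7
    exact Fin.ext (Fin.mk.inj h5)
  rw [hjj]

end

/-- generators for `a` -/
def g_a : List (List ℕ) := [[2, 2, 2, 0, 3, 3, 0, 2, 2, 2, 1, 2, 2, 1], [2, 2, 0, 4, 2, 2, 2, 4, 1, 2], [2, 2], [2, 2, 2, 1, 2, 2, 1, 2, 2, 2, 0, 3, 3, 0]]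

/-- first transversal -/
def A_a : List (List ℕ) := [[], [0], [1], [2], [3], [1, 0], [3, 0], [0, 1], [1, 2], [3, 2], [1, 3], [2, 1, 0], [0, 1, 2], [3, 1, 2], [1, 3, 2], [2, 1, 3]]

/-- second transversal -/
def B_a : List (List ℕ) := [[], [2, 1], [0, 2, 0], [1, 3, 1], [2, 3, 1], [1, 2, 2], [0, 2, 2, 0], [1, 2, 0, 2], [2, 2, 0, 2], [1, 3, 2, 2], [2, 3, 2, 2], [2, 1, 0, 2, 0], [0, 2, 0, 2, 1], [1, 3, 1, 2, 1], [2, 1, 2, 3, 1], [1, 3, 2, 0, 2], [3, 2, 1, 0, 1, 0], [1, 3, 1, 0, 2, 0], [1, 2, 2, 0, 2, 0], [2, 1, 0, 2, 2, 0], [3, 2, 0, 2, 0, 1], [0, 2, 2, 0, 2, 1], [1, 2, 0, 2, 2, 1]]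

theorem bd_a {L : Type*} [Group L] [Finite L] (D : KFacts.HS.Mod L) : 368 ≤ Nat.card {t : L // D.au (hw [2, 2, 2]) t = t} :=
  bound D (gens := g_a) (by decide +kernel) 11 1 (by norm_num) (by norm_num) A_a B_a (by decide +kernel)
    (by decide +kernel) (by decide +kernel)

/-- generators for `x` -/
def g_x : List (List ℕ) := [[0, 3, 4, 2, 4, 1, 4, 3, 4, 2, 1, 3, 4, 2, 4], [0, 2, 0, 2, 0, 3, 1, 3, 0, 2, 0, 2, 0, 3, 1, 3], [1, 2, 1, 3, 1, 2], [3, 1, 2, 1, 3]]

/-- first transversal -/
def A_x : List (List ℕ) := [[], [0], [1], [2], [3], [3, 0], [0, 1], [2, 1], [3, 1], [0, 2], [2, 2], [3, 2], [0, 3], [1, 3], [3, 3], [0, 3, 0], [3, 3, 0], [3, 0, 1], [0, 2, 1], [3, 2, 1], [0, 3, 1], [3, 3, 1], [1, 2, 2], [1, 0, 3], [0, 1, 3], [3, 1, 3], [3, 3, 0, 1], [3, 0, 2, 1], [1, 0, 3, 1], [3, 1, 2, 2]]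

/-- second transversal -/
def B_x : List (List ℕ) := [[], [0, 1, 0], [3, 0, 2], [2, 0, 3], [2, 0, 2, 0], [2, 0, 2, 1, 0], [3, 2, 2, 2, 0], [3, 0, 1, 2, 1], [3, 1, 3, 3, 1], [1, 3, 3, 3, 1], [1, 3, 1, 0, 2], [0, 3, 3, 3, 2]]

theorem bd_x {L : Type*} [Group L] [Finite L] (D : KFacts.HS.Mod L) : 360 ≤ Nat.card {t : L // D.au (hw [0]) t = t} :=
  bound D (gens := g_x) (by decide +kernel) 0 8 (by norm_num) (by norm_num) A_x B_x (by decide +kernel)
    (by decide +kernel) (by decide +kernel)

/-- generators for `z` -/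
def g_z : List (List ℕ) := [[4, 3, 1, 4, 2, 4, 3, 4, 0, 2], [3, 3, 4, 2, 2, 4, 3, 3], [3, 1, 4, 0, 2, 4, 3, 1], [4, 2, 1, 3, 3, 4, 2, 2, 0, 3]]

/-- first transversal -/
def A_z : List (List ℕ) := [[], [0], [1], [2], [3], [1, 0], [2, 0], [1, 1], [2, 1], [3, 1], [1, 2], [2, 1, 0], [3, 1, 0], [1, 2, 0], [2, 2, 0], [0, 1, 1], [1, 1, 1], [2, 1, 1], [3, 1, 1], [1, 2, 1], [2, 2, 1], [3, 2, 1], [2, 3, 1], [3, 1, 2], [2, 2, 1, 0], [1, 0, 1, 1], [2, 0, 1, 1], [1, 2, 1, 1], [1, 3, 1, 1], [2, 3, 1, 1]]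

/-- second transversal -/
def B_z : List (List ℕ) := [[], [2, 2], [1, 1, 0], [2, 3, 0], [2, 0, 2], [0, 3, 2], [3, 0, 3], [1, 0, 1, 0], [2, 0, 3, 0], [0, 3, 0, 2], [1, 1, 3, 2], [1, 1, 2, 3]]

theorem bd_z {L : Type*} [Group L] [Finite L] (D : KFacts.HS.Mod L) : 360 ≤ Nat.card {t : L // D.au (hw [4]) t = t} :=
  bound D (gens := g_z) (by decide +kernel) 0 3 (by norm_num) (by norm_num) A_z B_z (by decide +kernel)
    (by decide +kernel) (by decide +kernel)

/-- generators for `d` -/
def g_d : List (List ℕ) := [[1, 3, 1, 2, 1, 4, 3, 4, 2, 2, 4, 1, 3, 1, 2, 1, 4, 3], [1, 3, 1, 2, 1, 4, 3, 1, 3, 1, 2, 1, 4, 3, 4, 2, 2, 4], [0], [1, 3, 1, 2, 1, 4, 3, 4, 2, 4, 3, 1, 3, 1, 2, 1, 4, 3, 4, 2, 4, 2]]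

/-- first transversal -/
def A_d : List (List ℕ) := [[], [0], [1], [2], [3], [1, 0], [2, 0], [3, 0], [2, 1], [3, 1], [1, 2], [3, 2], [2, 3], [0, 1, 0], [3, 1, 0], [0, 3, 0], [3, 2, 1], [0, 3, 1], [2, 3, 1], [0, 1, 2], [0, 3, 2], [3, 0, 1, 0], [0, 3, 1, 0], [1, 0, 3, 0], [0, 3, 2, 1], [1, 0, 3, 1], [2, 0, 3, 1], [3, 0, 1, 2], [1, 0, 3, 2], [1, 0, 3, 2, 1], [0, 1, 0, 3, 1], [2, 1, 0, 3, 1]]

/-- second transversal -/
def B_d : List (List ℕ) := [[], [1, 0, 1], [3, 0, 3], [2, 1, 2, 1, 0], [2, 0, 1, 2, 1], [1, 2, 0, 1, 2, 0], [3, 2, 0, 3, 2, 0], [3, 0, 3, 1, 0, 1], [2, 0, 1, 2, 0, 1], [1, 0, 3, 1, 0, 3], [2, 0, 3, 2, 0, 3], [2, 0, 1, 0, 1, 2, 0]]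

theorem bd_d {L : Type*} [Group L] [Finite L] (D : KFacts.HS.Mod L) : 384 ≤ Nat.card {t : L // D.au (hw [1, 3, 1, 2, 1, 4, 3, 4, 2, 4]) t = t} :=
  bound D (gens := g_d) (by decide +kernel) 0 5 (by norm_num) (by norm_num) A_d B_d (by decide +kernel)
    (by decide +kernel) (by decide +kernel)

/-- conjugate automorphisms have equally many fixed points -/
theorem card_conj {G : Type*} [Group G] (α β : MulAut G) :
    Nat.card {t : G // (β * α * β⁻¹) t = t} = Nat.card {t : G // α t = t} := by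
  refine Nat.card_congr (β.symm.toEquiv.subtypeEquiv fun a => ?_)
  change β (α (β.symm a)) = a ↔ α (β.symm a) = β.symm a
  constructor
  · intro h
    apply β.injective
    rw [h, MulEquiv.apply_symm_apply]
  · intro h
    rw [h, MulEquiv.apply_symm_apply]

theorem card_of_isConj {L : Type*} [Group L] (D : KFacts.HS.Mod L) {u h : H0} (huh : IsConj u h) :
    Nat.card {t : L // D.au h t = t} = Nat.card {t : L // D.au u t = t} := by
  obtain ⟨c, rfl⟩ := isConj_iff.1 huh
  rw [map_mul, map_mul, map_inv]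
  exact card_conj _ _

theorem cube_mod {L : Type*} [Group L] (D : KFacts.HS.Mod L) (hcard : Nat.card L = 44352000) : CubeBound L := by
  have hfin : Finite L := Nat.finite_of_card_ne_zero (by rw [hcard]; norm_num)
  intro α hα
  have hsq : α * α = 1 := mul_self_of_order hα
  have hα1 : α ≠ 1 := by
    rintro rfl
    rw [orderOf_one] at hα
    omega
  suffices h : 354 ≤ Nat.card {t : L // α t = t} by
    rw [hcard]
    calc 44352000 < 354 ^ 3 := by norm_num
      _ ≤ _ := Nat.pow_le_pow_left h 3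
  obtain ⟨h, rfl⟩ := D.au_surj α
  rw [← map_mul, D.au_ker] at hsq
  rcases Syl.sq_cases (g := h) (by rwa [pow_two]) with h1 | h1 | h1 | h1 | h1 | h1 | h1
  · exact absurd ((D.au_ker h).2 (Or.inl h1)) hα1
  · exact absurd ((D.au_ker h).2 (Or.inr h1)) hα1
  · rw [card_of_isConj D h1, ← Syl.hw_a]
    exact le_trans (by norm_num) (bd_a D)
  · rw [card_of_isConj D h1, map_mul, (D.au_ker τ).2 (Or.inr rfl), mul_one, ← Syl.hw_a]
    exact le_trans (by norm_num) (bd_a D)
  · rw [card_of_isConj D h1, ← hw_x]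
    exact le_trans (by norm_num) (bd_x D)
  · rw [card_of_isConj D h1, ← hw_z]
    exact le_trans (by norm_num) (bd_z D)
  · rw [card_of_isConj D h1]
    exact le_trans (by norm_num) (bd_d D)

theorem cube_HS {G : Type*} [Group G] (h : Cfsg.Spor.IsoHS G) : CubeBound G := by
  obtain ⟨D⟩ := exists_mod h
  exact cube_mod D (D.card)

end Cfsg.Agent.H692.CubeHS

private theorem dce_d130b43f3d4c : _root_.True := by
  try have : _root_.True := by simp only [_root_.Cfsg.Agent.H692.CubeHS.ok.eq_1]
  try have : _root_.True := by simp only [_root_.Cfsg.Agent.H692.CubeHS.Cm.eq_1]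
  exact _root_.True.intro
end

-- part: H817/OrbCover
section
set_option linter.all false
open scoped Cfsg.Agent.FastGrp

/-!
# Covering a set by orbits of known lengths, covering a group by double cosets (helper817, task 240)
-/

set_option autoImplicit false

namespace Cfsg.Agent.H817.OrbCover

/-- orbits of different lengths whose lengths add up to the number of points cover -/
theorem exists_mem_orbit {B X : Type*} [Group B] [MulAction B X] [Finite X] {r : ℕ} (p : Fin r → X) (n : Fin r → ℕ)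
    (hn : ∀ i, (MulAction.orbit B (p i)).ncard = n i) (hinj : Function.Injective n)
    (hsum : ∑ i, n i = Nat.card X) (x : X) : ∃ i, x ∈ MulAction.orbit B (p i) := by
  classical
  have : Fintype X := Fintype.ofFinite _
  have : ∀ i, Fintype (MulAction.orbit B (p i)) := fun i => Fintype.ofFinite _
  let f : (Σ i, MulAction.orbit B (p i)) → X := fun y => y.2
  have hf : Function.Injective f := by
    rintro ⟨i, x, hx⟩ ⟨j, y, hy⟩ h
    change x = y at h
    subst h
    have h1 : MulAction.orbit B (p i) = MulAction.orbit B (p j) := by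
      rw [← MulAction.orbit_eq_iff.2 hx, ← MulAction.orbit_eq_iff.2 hy]
    have h2 : i = j := hinj (by rw [← hn, ← hn, h1])
    subst h2
    rfl
  have hcard : Fintype.card (Σ i, MulAction.orbit B (p i)) = Fintype.card X := by
    rw [Fintype.card_sigma, ← Nat.card_eq_fintype_card (α := X), ← hsum]
    refine Finset.sum_congr rfl fun i _ => ?_
    rw [← hn i, ← Nat.card_eq_fintype_card]
    rfl
  have hs := ((Fintype.bijective_iff_injective_and_card f).2 ⟨hf, hcard⟩).2 x
  obtain ⟨⟨i, y, hy⟩, h⟩ := hs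
  exact ⟨i, by rw [← h]; exact hy⟩

/-- from orbits of `B` on the cosets of `B` to double cosets -/
theorem cover_of_orbits {T : Type*} [Group T] (B : Subgroup T) {ι : Type*} (p : ι → T ⧸ B)
    (hp : ∀ x : T ⧸ B, ∃ i, x ∈ MulAction.orbit B (p i)) :
    ∃ w : ι → T, ∀ g : T, ∃ i, ∃ b ∈ B, ∃ c ∈ B, g = b * w i * c := by
  choose w hw using fun i => QuotientGroup.mk_surjective (p i)
  refine ⟨w, fun g => ?_⟩
  obtain ⟨i, ⟨b, hb⟩, hi⟩ := hp (g : T ⧸ B)
  refine ⟨i, b, hb, (b * w i)⁻¹ * g, ?_, by group⟩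
  rw [← QuotientGroup.eq]
  rw [← hw i] at hi
  exact hi

/-- the orbit of the trivial coset has length one -/
theorem ncard_orbit_one {T : Type*} [Group T] (B : Subgroup T) :
    (MulAction.orbit B ((1 : T) : T ⧸ B)).ncard = 1 := by
  rw [Set.ncard_eq_one]
  refine ⟨((1 : T) : T ⧸ B), Set.eq_singleton_iff_unique_mem.2 ⟨MulAction.mem_orbit_self _, ?_⟩⟩
  rintro _ ⟨⟨b, hb⟩, rfl⟩
  change ((b * 1 : T) : T ⧸ B) = ((1 : T) : T ⧸ B)
  rw [QuotientGroup.eq, mul_one, mul_one]
  exact inv_mem hb

end Cfsg.Agent.H817.OrbCover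
end

-- part: H269/CubeJ1
section
set_option linter.all false
open scoped Cfsg.Agent.FastGrp

/-!
# The cube bound for `J₁` (helper269, for S5721/S5718)
-/

set_option autoImplicit false

namespace Cfsg.Agent.H269.CubeJ1

open Cfsg Subgroup
open Cfsg.Agent.H383.Cube Cfsg.Agent.H269.CubeTools

theorem cube_J1' : CubeBound Spor.J1 := by
  obtain ⟨D⟩ := Cfsg.Agent.UGT.EndJ1.Data.exists_dat
  have hc := D.card
  haveI : Finite Spor.J1 := D.fin
  haveI : IsSimpleGroup Spor.J1 := Cfsg.Agent.SporadicB.J1.Main.isJ1.1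
  refine cube_inner 120 (by rw [hc]; norm_num) (center_bot_of_simple (by rw [hc]; norm_num))
    Cfsg.Agent.OddHalf.D4.Spor.J1Out.inn ?_
  intro t h1 h2
  obtain ⟨g, hg⟩ := D.conj_t h1 h2
  have h3 : Nat.card (centralizer ({t} : Set Spor.J1)) = Nat.card (centralizer ({D.t} : Set Spor.J1)) := by
    refine (Nat.card_congr (Equiv.subtypeEquiv (MulAut.conj g).toEquiv fun x => ?_)).symm
    show x ∈ centralizer ({D.t} : Set Spor.J1) ↔ g * x * g⁻¹ ∈ centralizer ({t} : Set Spor.J1)
    rw [mem_centralizer_singleton_iff, mem_centralizer_singleton_iff, ← hg]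
    constructor
    · intro h
      calc g * x * g⁻¹ * (g * D.t * g⁻¹) = g * (x * D.t) * g⁻¹ := by group
        _ = g * (D.t * x) * g⁻¹ := by rw [h]
        _ = g * D.t * g⁻¹ * (g * x * g⁻¹) := by group
    · intro h
      calc x * D.t = g⁻¹ * (g * x * g⁻¹ * (g * D.t * g⁻¹)) * g := by group
        _ = g⁻¹ * (g * D.t * g⁻¹ * (g * x * g⁻¹)) * g := by rw [h]
        _ = D.t * x := by group
  rw [h3, D.card_C]

/-- **J1** -/
theorem cube_J1 {G : Type*} [Group G] (h : Cfsg.Spor.IsoJ1 G) : Cfsg.Agent.H383.Cube.CubeBound G := by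
  obtain ⟨e⟩ := h
  exact CubeBound.congr e.symm cube_J1'

end Cfsg.Agent.H269.CubeJ1
end
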